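import Groth.Agent.Biext68.Site
import Groth.Prelude.Def_Biext

/-!
# One partial law of a biextension
-/

set_option autoImplicit false
set_option backward.isDefEq.respectTransparency false
set_option backward.isDefEq.respectTransparency.types false

universe u

open CategoryTheory Opposite

noncomputable section

namespace Groth.Agent.Biext68

variable {C : Type (u + 1)} [Category.{u} C] {J : GrothendieckTopology C}

/-- A torsor over a product with a partial law above the first factor. -/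
structure Half (P Q G : Sheaf J AddCommGrpCat.{u + 1}) where
  E : Sheaf J (Type (u + 1))
  πP : ∀ T : C, E.obj.obj (op T) → P.obj.obj (op T)
  πQ : ∀ T : C, E.obj.obj (op T) → Q.obj.obj (op T)
  πP_map : ∀ {T T' : C} (f : T' ⟶ T) (x : E.obj.obj (op T)), πP T' (E.obj.map f.op x) = P.obj.map f.op (πP T x)
  πQ_map : ∀ {T T' : C} (f : T' ⟶ T) (x : E.obj.obj (op T)), πQ T' (E.obj.map f.op x) = Q.obj.map f.op (πQ T x)
  act : ∀ T : C, G.obj.obj (op T) → E.obj.obj (op T) → E.obj.obj (op T)
  act_map : ∀ {T T' : C} (f : T' ⟶ T) (g : G.obj.obj (op T)) (x : E.obj.obj (op T)),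
    E.obj.map f.op (act T g x) = act T' (G.obj.map f.op g) (E.obj.map f.op x)
  πP_act : ∀ (T : C) (g : G.obj.obj (op T)) (x : E.obj.obj (op T)), πP T (act T g x) = πP T x
  πQ_act : ∀ (T : C) (g : G.obj.obj (op T)) (x : E.obj.obj (op T)), πQ T (act T g x) = πQ T x
  zero_act : ∀ (T : C) (x : E.obj.obj (op T)), act T 0 x = x
  add_act : ∀ (T : C) (g g' : G.obj.obj (op T)) (x : E.obj.obj (op T)), act T (g + g') x = act T g (act T g' x)
  existsUnique_act : ∀ (T : C) (x y : E.obj.obj (op T)), πP T x = πP T y → πQ T x = πQ T y →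
    ∃! g : G.obj.obj (op T), act T g x = y
  locallySurjective : ∀ (T : C) (p : P.obj.obj (op T)) (q : Q.obj.obj (op T)), ∃ R ∈ J T,
    ∀ ⦃T' : C⦄ (f : T' ⟶ T), R f → ∃ x : E.obj.obj (op T'), πP T' x = P.obj.map f.op p ∧ πQ T' x = Q.obj.map f.op q
  add : ∀ (T : C) (x y : E.obj.obj (op T)), πP T x = πP T y → E.obj.obj (op T)
  πP_add : ∀ (T : C) (x y : E.obj.obj (op T)) (h : πP T x = πP T y), πP T (add T x y h) = πP T x
  πQ_add : ∀ (T : C) (x y : E.obj.obj (op T)) (h : πP T x = πP T y), πQ T (add T x y h) = πQ T x + πQ T y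
  add_map : ∀ {T T' : C} (f : T' ⟶ T) (x y : E.obj.obj (op T)) (h : πP T x = πP T y),
    E.obj.map f.op (add T x y h) = add T' (E.obj.map f.op x) (E.obj.map f.op y) (by rw [πP_map, πP_map, h])
  add_comm : ∀ (T : C) (x y : E.obj.obj (op T)) (h : πP T x = πP T y), add T x y h = add T y x h.symm
  add_assoc : ∀ (T : C) (x y w : E.obj.obj (op T)) (h : πP T x = πP T y) (h' : πP T y = πP T w),
    add T (add T x y h) w ((πP_add T x y h).trans (h.trans h')) =
      add T x (add T y w h') (h.trans (πP_add T y w h').symm)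
  act_add : ∀ (T : C) (g : G.obj.obj (op T)) (x y : E.obj.obj (op T)) (h : πP T x = πP T y),
    add T (act T g x) y ((πP_act T g x).trans h) = act T g (add T x y h)

variable {P Q G : Sheaf J AddCommGrpCat.{u + 1}}

/-- the second law -/
def half₂ (B : Biext J P Q G) : Half P Q G where
  E := B.E
  πP := B.πP
  πQ := B.πQ
  πP_map := B.πP_map
  πQ_map := B.πQ_map
  act := B.act
  act_map := B.act_map
  πP_act := B.πP_act
  πQ_act := B.πQ_act
  zero_act := B.zero_act
  add_act := B.add_act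
  existsUnique_act := B.existsUnique_act
  locallySurjective := B.locallySurjective
  add := B.add₂
  πP_add := B.πP_add₂
  πQ_add := B.πQ_add₂
  add_map := B.add₂_map
  add_comm := B.add₂_comm
  add_assoc := B.add₂_assoc
  act_add := B.add₂_act

/-- the first law -/
def half₁ (B : Biext J P Q G) : Half Q P G where
  E := B.E
  πP := B.πQ
  πQ := B.πP
  πP_map := B.πQ_map
  πQ_map := B.πP_map
  act := B.act
  act_map := B.act_map
  πP_act := B.πQ_act
  πQ_act := B.πP_act
  zero_act := B.zero_act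
  add_act := B.add_act
  existsUnique_act T x y h h' := B.existsUnique_act T x y h' h
  locallySurjective T q p := by
    obtain ⟨R, hR, h⟩ := B.locallySurjective T p q
    exact ⟨R, hR, fun T' f hf => let ⟨x, h1, h2⟩ := h f hf; ⟨x, h2, h1⟩⟩
  add := B.add₁
  πP_add := B.πQ_add₁
  πQ_add := B.πP_add₁
  add_map := B.add₁_map
  add_comm := B.add₁_comm
  add_assoc := B.add₁_assoc
  act_add := B.add₁_act

namespace Half

variable (H : Half P Q G) {T : C}

theorem act_inj {g g' : G.obj.obj (op T)} {x : H.E.obj.obj (op T)} (h : H.act T g x = H.act T g' x) : g = g' :=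
  (H.existsUnique_act T x (H.act T g x) (H.πP_act T g x).symm (H.πQ_act T g x).symm).unique rfl h.symm

theorem add_congr {x x' y y' : H.E.obj.obj (op T)} (hx : x = x') (hy : y = y') (h : H.πP T x = H.πP T y) :
    H.add T x y h = H.add T x' y' (by rw [← hx, ← hy, h]) := by subst hx hy; rfl

theorem act_neg (g : G.obj.obj (op T)) (x : H.E.obj.obj (op T)) : H.act T (-g) (H.act T g x) = x := by
  rw [← H.add_act, neg_add_cancel, H.zero_act]

theorem add_act' (g : G.obj.obj (op T)) (x y : H.E.obj.obj (op T)) (h : H.πP T x = H.πP T y) :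
    H.add T x (H.act T g y) (h.trans (H.πP_act T g y).symm) = H.act T g (H.add T x y h) := by
  rw [H.add_comm, H.act_add _ _ _ _ h.symm, H.add_comm T y x]

theorem add_cancel {x y y' : H.E.obj.obj (op T)} {h : H.πP T x = H.πP T y} {h' : H.πP T x = H.πP T y'}
    (e : H.add T x y h = H.add T x y' h') : y = y' := by
  obtain ⟨g, hg, -⟩ := H.existsUnique_act T y y' (h.symm.trans h') (by
    have := congrArg (H.πQ T) e
    rw [H.πQ_add, H.πQ_add] at this
    exact add_left_cancel this)
  subst hg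
  rw [H.add_act' g x y h] at e
  have : g = 0 := H.act_inj (x := H.add T x y h) (e.symm.trans (H.zero_act T _).symm)
  rw [this, H.zero_act]

theorem exists_zero (c : P.obj.obj (op T)) :
    ∃ z, ∃ h : H.πP T z = c, H.add T z z rfl = z := by
  obtain ⟨z, R, hR, hz⟩ := exists_glueE H.E (T := T)
    (fun {W} f x => H.πP W x = res P f c ∧ H.add W x x rfl = x)
    (fun g f x h => ⟨by rw [H.πP_map, h.1]; exact res_comp P f g c, by rw [← H.add_map g x x rfl, h.2]⟩)
    (fun {W} f x y hx hy => by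
      have hxy : H.πP W x = H.πP W y := hx.1.trans hy.1.symm
      have e1 : H.add W x y hxy = y := H.add_cancel (x := x) (h := (H.πP_add W x y hxy).symm) (h' := hxy) (by
        rw [← H.add_assoc W x x y rfl hxy, H.add_congr hx.2 rfl])
      have e2 : H.add W y x hxy.symm = x := H.add_cancel (x := y) (h := (H.πP_add W y x hxy.symm).symm) (h' := hxy.symm) (by
        rw [← H.add_assoc W y y x rfl hxy.symm, H.add_congr hy.2 rfl])
      rw [← e2, H.add_comm, e1])
    (by
      obtain ⟨R, hR, h⟩ := H.locallySurjective T c 0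
      refine ⟨R, hR, fun W f hf => ?_⟩
      obtain ⟨x, hx, hx0⟩ := h f hf
      obtain ⟨g, hg, -⟩ := H.existsUnique_act W x (H.add W x x rfl) (H.πP_add W x x rfl).symm (by
        rw [H.πQ_add, hx0, map_zero, _root_.add_zero])
      refine ⟨H.act W (-g) x, by rw [H.πP_act, hx], ?_⟩
      rw [H.act_add W (-g) x _ (H.πP_act W (-g) x).symm, H.add_act' (-g) x x rfl, ← hg, H.act_neg])
  refine ⟨z, sepA P hR fun W f hf => ?_, sepE H.E hR fun W f hf => ?_⟩
  · exact (H.πP_map f z).symm.trans (hz f hf).1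
  · exact (H.add_map f z z rfl).trans (hz f hf).2

/-- the neutral element -/
def zero (T : C) (c : P.obj.obj (op T)) : H.E.obj.obj (op T) := (H.exists_zero c).choose

theorem πP_zero (c : P.obj.obj (op T)) : H.πP T (H.zero T c) = c := (H.exists_zero c).choose_spec.1

theorem zero_idem (c : P.obj.obj (op T)) : H.add T (H.zero T c) (H.zero T c) rfl = H.zero T c :=
  (H.exists_zero c).choose_spec.2

theorem πQ_zero (c : P.obj.obj (op T)) : H.πQ T (H.zero T c) = 0 := by
  have := congrArg (H.πQ T) (H.zero_idem c)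
  rw [H.πQ_add] at this
  exact left_eq_add.1 this.symm

theorem zero_add' {c : P.obj.obj (op T)} {x : H.E.obj.obj (op T)} (h : H.πP T x = c) :
    H.add T (H.zero T c) x ((H.πP_zero c).trans h.symm) = x :=
  H.add_cancel (x := H.zero T c) (h := (H.πP_add T _ _ _).symm) (h' := (H.πP_zero c).trans h.symm) (by
    rw [← H.add_assoc T _ _ x rfl, H.add_congr (H.zero_idem c) rfl])

theorem eq_zero_of_idem {c : P.obj.obj (op T)} {x : H.E.obj.obj (op T)} (h : H.πP T x = c)
    (e : H.add T x x rfl = x) : x = H.zero T c :=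
  (H.add_cancel (x := x) (h' := rfl) (h := h.trans (H.πP_zero c).symm) (by
    rw [H.add_comm, H.zero_add' h, e])).symm

theorem res_zero {W : C} (f : W ⟶ T) (c : P.obj.obj (op T)) :
    resE H.E f (H.zero T c) = H.zero W (res P f c) := by
  refine H.eq_zero_of_idem ?_ ?_
  · rw [H.πP_map, H.πP_zero]
  · rw [← H.add_map f _ _ rfl, H.zero_idem]

theorem exists_neg (x : H.E.obj.obj (op T)) :
    ∃ y, ∃ h : H.πP T x = H.πP T y, H.add T x y h = H.zero T (H.πP T x) := by
  obtain ⟨y, R, hR, hy⟩ := exists_glueE H.E (T := T)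
    (fun {W} f y => ∃ h : H.πP W (resE H.E f x) = H.πP W y, H.add W (resE H.E f x) y h = H.zero W (res P f (H.πP T x)))
    (fun {W W'} g f y ⟨h, e⟩ => by
      have h' : H.πP W' (resE H.E (g ≫ f) x) = H.πP W' (resE H.E g y) := by
        rw [← resE_comp]
        exact (H.πP_map g _).trans ((congrArg (res P g) h).trans (H.πP_map g y).symm)
      refine ⟨h', ?_⟩
      rw [H.add_congr (resE_comp H.E f g x).symm rfl, ← H.add_map g _ _ h, e]
      exact (H.res_zero g _).trans (congrArg (H.zero W') (res_comp P f g _)))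
    (fun f y y' ⟨h, e⟩ ⟨h', e'⟩ => H.add_cancel (e.trans e'.symm))
    (by
      obtain ⟨R, hR, h⟩ := H.locallySurjective T (H.πP T x) (-(H.πQ T x))
      refine ⟨R, hR, fun W f hf => ?_⟩
      obtain ⟨y, hyP, hyQ⟩ := h f hf
      have hh : H.πP W (resE H.E f x) = H.πP W y := by rw [H.πP_map, hyP]
      obtain ⟨g, hg, -⟩ := H.existsUnique_act W (H.zero W (res P f (H.πP T x))) (H.add W _ _ hh)
        (by rw [H.πP_zero, H.πP_add, H.πP_map])
        (by rw [H.πQ_zero, H.πQ_add, H.πQ_map, hyQ, map_neg, add_neg_cancel])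
      refine ⟨H.act W (-g) y, hh.trans (H.πP_act W (-g) y).symm, ?_⟩
      rw [H.add_act' (-g) _ _ hh, ← hg, H.act_neg])
  have hh : H.πP T x = H.πP T y := sepA P hR fun W f hf => by
    obtain ⟨h, -⟩ := hy f hf
    rw [H.πP_map, H.πP_map] at h
    exact h
  refine ⟨y, hh, sepE H.E hR fun W f hf => ?_⟩
  obtain ⟨h, e⟩ := hy f hf
  rw [H.res_zero]
  exact (H.add_map f x y hh).trans e

/-- the opposite element -/
def neg (x : H.E.obj.obj (op T)) : H.E.obj.obj (op T) := (H.exists_neg x).choose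

theorem πP_neg (x : H.E.obj.obj (op T)) : H.πP T (H.neg x) = H.πP T x := (H.exists_neg x).choose_spec.1.symm

theorem add_neg (x : H.E.obj.obj (op T)) : H.add T x (H.neg x) (H.πP_neg x).symm = H.zero T (H.πP T x) :=
  (H.exists_neg x).choose_spec.2

/-- the fibre above a section of the first factor -/
def Fib (T : C) (c : P.obj.obj (op T)) : Type (u + 1) := {x : H.E.obj.obj (op T) // H.πP T x = c}

instance instGroup (c : P.obj.obj (op T)) : AddCommGroup (H.Fib T c) where
  add x y := ⟨H.add T x.1 y.1 (x.2.trans y.2.symm), (H.πP_add T _ _ _).trans x.2⟩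
  zero := ⟨H.zero T c, H.πP_zero c⟩
  neg x := ⟨H.neg x.1, (H.πP_neg x.1).trans x.2⟩
  nsmul := @nsmulRec _ ⟨⟨H.zero T c, H.πP_zero c⟩⟩ ⟨fun x y => ⟨H.add T x.1 y.1 (x.2.trans y.2.symm), (H.πP_add T _ _ _).trans x.2⟩⟩
  zsmul := @zsmulRec _ ⟨⟨H.zero T c, H.πP_zero c⟩⟩ ⟨fun x y => ⟨H.add T x.1 y.1 (x.2.trans y.2.symm), (H.πP_add T _ _ _).trans x.2⟩⟩
    ⟨fun x => ⟨H.neg x.1, (H.πP_neg x.1).trans x.2⟩⟩
    (@nsmulRec _ ⟨⟨H.zero T c, H.πP_zero c⟩⟩ ⟨fun x y => ⟨H.add T x.1 y.1 (x.2.trans y.2.symm), (H.πP_add T _ _ _).trans x.2⟩⟩)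
  add_assoc x y z := Subtype.ext (H.add_assoc T x.1 y.1 z.1 (x.2.trans y.2.symm) (y.2.trans z.2.symm))
  zero_add x := Subtype.ext (H.zero_add' x.2)
  add_zero x := Subtype.ext ((H.add_comm T _ _ _).trans (H.zero_add' x.2))
  add_comm x y := Subtype.ext (H.add_comm T x.1 y.1 _)
  neg_add_cancel x := Subtype.ext ((H.add_comm T _ _ _).trans ((H.add_neg x.1).trans (congrArg (H.zero T) x.2)))

theorem val_add {c : P.obj.obj (op T)} (x y : H.Fib T c) :
    (x + y).1 = H.add T x.1 y.1 (x.2.trans y.2.symm) := rfl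

theorem val_zero (c : P.obj.obj (op T)) : (0 : H.Fib T c).1 = H.zero T c := rfl

/-- restriction on fibres -/
def resF {W : C} (f : W ⟶ T) {c : P.obj.obj (op T)} {c' : P.obj.obj (op W)} (h : res P f c = c') :
    H.Fib T c →+ H.Fib W c' :=
  AddMonoidHom.mk' (fun x => ⟨resE H.E f x.1, by rw [H.πP_map, x.2]; exact h⟩)
    (fun x y => Subtype.ext (H.add_map f x.1 y.1 _))

/-- the kernel of the second projection -/
def inc (T : C) (c : P.obj.obj (op T)) : G.obj.obj (op T) →+ H.Fib T c :=
  AddMonoidHom.mk' (fun g => ⟨H.act T g (H.zero T c), (H.πP_act T _ _).trans (H.πP_zero c)⟩) fun g g' =>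
    Subtype.ext (by
      show _ = H.add T _ _ _
      rw [H.act_add T g (H.zero T c) _ ((H.πP_act T g' _).symm), H.add_act' g' _ _ rfl, H.zero_idem]
      exact H.add_act T g g' _)

theorem inc_add {c : P.obj.obj (op T)} (g : G.obj.obj (op T)) (x : H.Fib T c) :
    H.inc T c g + x = ⟨H.act T g x.1, (H.πP_act T g x.1).trans x.2⟩ :=
  Subtype.ext ((H.act_add T g (H.zero T c) x.1 ((H.πP_zero c).trans x.2.symm)).trans
    (congrArg (H.act T g) (H.zero_add' x.2)))

theorem exists_inc {c : P.obj.obj (op T)} (x y : H.Fib T c) (h : H.πQ T x.1 = H.πQ T y.1) :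
    ∃ g, H.inc T c g + x = y := by
  obtain ⟨g, hg, -⟩ := H.existsUnique_act T x.1 y.1 (x.2.trans y.2.symm) h
  exact ⟨g, (H.inc_add g x).trans (Subtype.ext hg)⟩

end Half

end Groth.Agent.Biext68
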