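import Groth.Agent.Biext68.Push

/-!
# Biextensions split locally above a section when the connecting morphism vanishes
-/

set_option autoImplicit false
set_option backward.isDefEq.respectTransparency false
set_option backward.isDefEq.respectTransparency.types false
set_option maxHeartbeats 800000

universe u

open CategoryTheory CategoryTheory.Limits Opposite

noncomputable section

namespace Groth.Agent.Biext68

variable {C : Type (u + 1)} [Category.{u} C] {J : GrothendieckTopology C}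
  {P Q G : Sheaf J AddCommGrpCat.{u + 1}}

theorem Half.Push.t_congr {H : Half P Q G} {I : Sheaf J AddCommGrpCat.{u + 1}} {j : G ⟶ I} {T : C}
    {p : P.obj.obj (op T)} (t : H.Push j T p) {W : C} {f f' : W ⟶ T} (e : f = f') (x : H.Fib W (res P f p))
    (x' : H.Fib W (res P f' p)) (h : x.1 = x'.1) : t.t f x = t.t f' x' := by
  subst e
  exact congrArg _ (Subtype.ext h)

theorem add₁_congr' (B : Biext J P Q G) {T : C} {x x' z z' : B.E.obj.obj (op T)} (hx : x = x') (hz : z = z')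
    (h : B.πQ T x = B.πQ T z) : B.add₁ T x z h = B.add₁ T x' z' (by rw [← hx, ← hz, h]) := by
  subst hx hz; rfl

/-- a splitting above one section -/
structure Spl (B : Biext J P Q G) (T : C) (p : P.obj.obj (op T)) where
  s : ∀ (W : C), (W ⟶ T) → Q.obj.obj (op W) → B.E.obj.obj (op W)
  πP_s : ∀ (W : C) (f : W ⟶ T) (q : Q.obj.obj (op W)), B.πP W (s W f q) = res P f p
  πQ_s : ∀ (W : C) (f : W ⟶ T) (q : Q.obj.obj (op W)), B.πQ W (s W f q) = q
  s_map : ∀ {W W' : C} (g : W' ⟶ W) (f : W ⟶ T) (q : Q.obj.obj (op W)),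
    resE B.E g (s W f q) = s W' (g ≫ f) (res Q g q)
  s_add : ∀ (W : C) (f : W ⟶ T) (q q' : Q.obj.obj (op W)),
    s W f (q + q') = B.add₂ W (s W f q) (s W f q') ((πP_s W f q).trans (πP_s W f q').symm)

variable [HasSheafify J AddCommGrpCat.{u + 1}] [∀ T : C, HasSheafify (J.over T) AddCommGrpCat.{u + 1}]
  [HasInjectiveResolutions (Sheaf J AddCommGrpCat.{u + 1})]
  (B : Biext J P Q G) {I : Sheaf J AddCommGrpCat.{u + 1}} [Injective I] {j : G ⟶ I}
  {X : Sheaf J AddCommGrpCat.{u + 1}} {π : I ⟶ X} {w : j ≫ π = 0}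

theorem exists_spl (hS : (ShortComplex.mk j π w).ShortExact)
    (h₂ : ∀ φ : P ⟶ (HomSh.extSh J Q 1).obj G, φ = 0) (T : C) (p : P.obj.obj (op T)) :
    ∃ R ∈ J T, ∀ ⦃W : C⦄ (g : W ⟶ T), R g → Nonempty (Spl B W (res P g p)) := by
  let H := half₂ B
  obtain ⟨δ, wδ, hδ⟩ := exists_delta Q hS
  let tt : ∀ (T : C) (p : P.obj.obj (op T)), H.Push j T p := fun T p => (H.exists_push T j p).some
  choose Φ hΦ using fun (T : C) (p : P.obj.obj (op T)) => (tt T p).exists_phi π w
  have hδ0 : ∀ (T : C) (h : Q.over T ⟶ I.over T),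
      δ.hom.app (op T) (h ≫ (J.overPullback AddCommGrpCat.{u + 1} T).map π) = 0 := fun T h => by
    rw [← CGrpEx.HomExact.app_id_left J π Q T h]
    exact congr(($wδ).hom.app (op T) h)
  have hπj : ∀ (W : C) (a : G.obj.obj (op W)), π.hom.app (op W) (j.hom.app (op W) a) = 0 :=
    fun W a => congr(($w).hom.app (op W) a)
  -- compatibility of the classes with addition
  have hadd : ∀ (T : C) (p p' : P.obj.obj (op T)), ∃ h : Q.over T ⟶ I.over T,
      h ≫ (J.overPullback AddCommGrpCat.{u + 1} T).map π = Φ T (p + p') - Φ T p - Φ T p' := by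
    intro T p p'
    have hp : ∀ {W : C} (f : W ⟶ T), res P f p + res P f p' = res P f (p + p') := fun f =>
      (map_add (P.obj.map f.op).hom p p').symm
    let Rel : ∀ Y : Over T, Q.obj.obj (op Y.left) → I.obj.obj (op Y.left) → Prop := fun Y q v =>
      ∃ (x : H.Fib Y.left (res P Y.hom p)) (x' : H.Fib Y.left (res P Y.hom p'))
        (hq : B.πQ Y.left x.1 = B.πQ Y.left x'.1), B.πQ Y.left x.1 = q ∧
        v = (tt T (p + p')).t Y.hom ⟨B.add₁ Y.left x.1 x'.1 hq,
          (B.πP_add₁ Y.left _ _ _).trans ((congrArg₂ (· + ·) x.2 x'.2).trans (hp Y.hom))⟩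
          - (tt T p).t Y.hom x - (tt T p').t Y.hom x'
    have hloc : ∀ (Y : Over T) (q : Q.obj.obj (op Y.left)), ∃ S ∈ J Y.left, ∀ ⦃V : C⦄ (g : V ⟶ Y.left), S g →
        ∃ (x : H.Fib V (res P (g ≫ Y.hom) p)) (x' : H.Fib V (res P (g ≫ Y.hom) p')),
          B.πQ V x.1 = res Q g q ∧ B.πQ V x'.1 = res Q g q := fun Y q => by
      obtain ⟨S₁, hS₁, h₁⟩ := Half.exists_fib (H := H) (res P Y.hom p) q
      obtain ⟨S₂, hS₂, h₂⟩ := Half.exists_fib (H := H) (res P Y.hom p') q
      refine ⟨_, J.intersection_covering hS₁ hS₂, fun V g hg => ?_⟩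
      obtain ⟨x, hx⟩ := h₁ g hg.1
      obtain ⟨x', hx'⟩ := h₂ g hg.2
      exact ⟨⟨x.1, x.2.trans (res_comp P Y.hom g p)⟩, ⟨x'.1, x'.2.trans (res_comp P Y.hom g p')⟩, hx, hx'⟩
    obtain ⟨h, hh⟩ := exists_desc (Q.over T) (I.over T) Rel
      (fun {Y Y'} k q v ⟨x, x', hq, hxq, hv⟩ => by
        have hk : ∀ c : P.obj.obj (op T), res P k.left (res P Y.hom c) = res P Y'.hom c := fun c => by
          rw [res_comp, Over.w k]
        refine ⟨H.resF k.left (hk p) x, H.resF k.left (hk p') x',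
          (B.πQ_map k.left x.1).trans ((congrArg (res Q k.left) hq).trans (B.πQ_map k.left x'.1).symm),
          (B.πQ_map k.left x.1).trans (congrArg (res Q k.left) hxq), ?_⟩
        show res I k.left v = _
        subst hv
        show (I.obj.map k.left.op).hom _ = _
        rw [map_sub, map_sub]
        change res I k.left ((tt T (p + p')).t Y.hom _) - res I k.left ((tt T p).t Y.hom x) -
          res I k.left ((tt T p').t Y.hom x') = _
        rw [(tt T (p + p')).t_map, (tt T p).t_map, (tt T p').t_map]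
        exact (congrArg₂ (· - ·) (congrArg₂ (· - ·) ((tt T (p + p')).t_congr (Over.w k) _ _ (B.add₁_map k.left _ _ _))
          ((tt T p).t_congr (Over.w k) _ _ rfl)) ((tt T p').t_congr (Over.w k) _ _ rfl)))
      (fun Y q v v' ⟨x, x', hq, hxq, hv⟩ ⟨y, y', hq', hyq, hv'⟩ => by
        obtain ⟨g, hg⟩ := H.exists_inc x y (hxq.trans hyq.symm)
        obtain ⟨g', hg'⟩ := H.exists_inc x' y' ((hq.symm.trans (hxq.trans hyq.symm)).trans hq')
        have e1 : y.1 = B.act Y.left g x.1 := by rw [← hg, H.inc_add]; rfl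
        have e2 : y'.1 = B.act Y.left g' x'.1 := by rw [← hg', H.inc_add]; rfl
        have e3 : B.add₁ Y.left y.1 y'.1 hq' = B.act Y.left (g + g') (B.add₁ Y.left x.1 x'.1 hq) := by
          rw [add₁_congr' B e1 e2, B.add₁_act Y.left g x.1 _ (hq.trans (B.πQ_act Y.left g' _).symm),
            B.add₁_comm Y.left x.1, B.add₁_act Y.left g' x'.1 x.1 hq.symm, B.add₁_comm Y.left x'.1 x.1, ← B.add_act]
        have e4 := (tt T (p + p')).t_act Y.hom (g + g') ⟨B.add₁ Y.left x.1 x'.1 hq,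
          (B.πP_add₁ Y.left _ _ _).trans ((congrArg₂ (· + ·) x.2 x'.2).trans (hp Y.hom))⟩
          ((B.πP_act Y.left _ _).trans ((B.πP_add₁ Y.left _ _ _).trans ((congrArg₂ (· + ·) x.2 x'.2).trans (hp Y.hom))))
        rw [hv, hv']
        simp only [e3]
        erw [e4]
        rw [← hg, ← hg', map_add ((tt T p).t Y.hom), map_add ((tt T p').t Y.hom), (tt T p).t_inc, (tt T p').t_inc, map_add]
        abel)
      (fun Y q q' v v' ⟨x, x', hq, hxq, hv⟩ ⟨y, y', hq', hyq, hv'⟩ => by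
        have hs : B.πQ Y.left (x + y).1 = B.πQ Y.left (x' + y').1 := by
          rw [H.val_add, H.val_add]
          exact (B.πQ_add₂ _ _ _ _).trans ((congrArg₂ (· + ·) hq hq').trans (B.πQ_add₂ _ _ _ _).symm)
        refine ⟨x + y, x' + y', hs, ?_, ?_⟩
        · rw [H.val_add]
          exact (B.πQ_add₂ _ _ _ _).trans (congrArg₂ (· + ·) hxq hyq)
        · have e : (⟨B.add₁ Y.left (x + y).1 (x' + y').1 hs,
              (B.πP_add₁ Y.left _ _ _).trans ((congrArg₂ (· + ·) (x + y).2 (x' + y').2).trans (hp Y.hom))⟩ :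
                H.Fib Y.left (res P Y.hom (p + p'))) =
              @HAdd.hAdd (H.Fib Y.left (res P Y.hom (p + p'))) (H.Fib Y.left (res P Y.hom (p + p'))) (H.Fib Y.left (res P Y.hom (p + p'))) _
                ⟨B.add₁ Y.left x.1 x'.1 hq, (B.πP_add₁ Y.left _ _ _).trans ((congrArg₂ (· + ·) x.2 x'.2).trans (hp Y.hom))⟩
                ⟨B.add₁ Y.left y.1 y'.1 hq', (B.πP_add₁ Y.left _ _ _).trans ((congrArg₂ (· + ·) y.2 y'.2).trans (hp Y.hom))⟩ :=
            Subtype.ext (B.compat Y.left x.1 y.1 x'.1 y'.1 (x.2.trans y.2.symm) (x'.2.trans y'.2.symm) hq hq')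
          show v + v' = _
          rw [e, map_add, map_add, map_add, hv, hv']
          abel)
      (fun Y q => by
        obtain ⟨S, hS', h⟩ := hloc Y q
        refine ⟨_, sieve_over Y hS', fun Y' k hk => ?_⟩
        obtain ⟨x, x', hx, hx'⟩ := h k.left ((Sieve.overEquiv_symm_iff _ _).1 hk)
        let y : H.Fib Y'.left (res P Y'.hom p) := ⟨x.1, x.2.trans (by rw [Over.w k])⟩
        let y' : H.Fib Y'.left (res P Y'.hom p') := ⟨x'.1, x'.2.trans (by rw [Over.w k])⟩
        exact ⟨_, y, y', hx.trans hx'.symm, hx, rfl⟩)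
    refine ⟨h, hom_ext_local _ _ fun Y q => ?_⟩
    obtain ⟨S, hS', hl⟩ := hloc Y q
    refine ⟨_, sieve_over Y hS', fun Y' k hk => ?_⟩
    obtain ⟨x₀, x₀', hx, hx'⟩ := hl k.left ((Sieve.overEquiv_symm_iff _ _).1 hk)
    let x : H.Fib Y'.left (res P Y'.hom p) := ⟨x₀.1, x₀.2.trans (by rw [Over.w k])⟩
    let x' : H.Fib Y'.left (res P Y'.hom p') := ⟨x₀'.1, x₀'.2.trans (by rw [Over.w k])⟩
    let x'' : H.Fib Y'.left (res P Y'.hom (p + p')) := ⟨B.add₁ Y'.left x.1 x'.1 (hx.trans hx'.symm),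
      (B.πP_add₁ Y'.left _ _ _).trans ((congrArg₂ (· + ·) x.2 x'.2).trans (hp Y'.hom))⟩
    have a1 := hh Y' _ _ ⟨x, x', hx.trans hx'.symm, hx, rfl⟩
    have b1 : (Φ T (p + p')).hom.app (op Y') (res Q k.left q) = _ :=
      (congrArg _ ((B.πQ_add₁ Y'.left _ _ _).trans hx).symm).trans (hΦ T (p + p') Y'.hom x'')
    have b2 : (Φ T p).hom.app (op Y') (res Q k.left q) = _ := (congrArg _ hx.symm).trans (hΦ T p Y'.hom x)
    have b3 : (Φ T p').hom.app (op Y') (res Q k.left q) = _ := (congrArg _ hx'.symm).trans (hΦ T p' Y'.hom x')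
    show π.hom.app (op Y'.left) (h.hom.app (op Y') (res Q k.left q)) =
      (Φ T (p + p')).hom.app (op Y') (res Q k.left q) - (Φ T p).hom.app (op Y') (res Q k.left q) -
        (Φ T p').hom.app (op Y') (res Q k.left q)
    erw [a1, b1, b2, b3]
    rw [map_sub, map_sub]
  -- compatibility with restriction
  have hres : ∀ {T W : C} (g : W ⟶ T) (p : P.obj.obj (op T)), ∃ h : Q.over W ⟶ I.over W,
      h ≫ (J.overPullback AddCommGrpCat.{u + 1} W).map π =
        Φ W (res P g p) - (show Q.over W ⟶ X.over W from (HomSh.homSh J Q X).obj.map g.op (Φ T p)) := by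
    intro T W g p
    obtain ⟨h, hh⟩ := exists_desc (Q.over W) (I.over W) (fun Y q v =>
        ∃ (x : H.Fib Y.left (res P Y.hom (res P g p))), B.πQ Y.left x.1 = q ∧
          v = (tt W (res P g p)).t Y.hom x - (tt T p).t (Y.hom ≫ g) ⟨x.1, x.2.trans (res_comp P g Y.hom p)⟩)
      (fun {Y Y'} k q v ⟨x, hxq, hv⟩ => by
        have hk : res P k.left (res P Y.hom (res P g p)) = res P Y'.hom (res P g p) := by rw [res_comp, Over.w k]
        refine ⟨H.resF k.left hk x, (B.πQ_map k.left x.1).trans (congrArg (res Q k.left) hxq), ?_⟩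
        show res I k.left v = _
        subst hv
        show (I.obj.map k.left.op).hom _ = _
        rw [map_sub]
        change res I k.left ((tt W (res P g p)).t Y.hom x) - res I k.left ((tt T p).t (Y.hom ≫ g) _) = _
        rw [(tt W (res P g p)).t_map, (tt T p).t_map]
        exact congrArg₂ (· - ·) ((tt W _).t_congr (Over.w k) _ _ rfl)
          ((tt T p).t_congr (by rw [← Category.assoc, Over.w k]) _ _ rfl))
      (fun Y q v v' ⟨x, hxq, hv⟩ ⟨y, hyq, hv'⟩ => by
        obtain ⟨a, ha⟩ := H.exists_inc x y (hxq.trans hyq.symm)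
        have hy : (⟨y.1, y.2.trans (res_comp P g Y.hom p)⟩ : H.Fib Y.left (res P (Y.hom ≫ g) p)) =
            H.inc Y.left _ a + ⟨x.1, x.2.trans (res_comp P g Y.hom p)⟩ := by
          rw [H.inc_add]
          exact Subtype.ext (by show y.1 = _; rw [← ha, H.inc_add])
        rw [hv, hv', hy, ← ha, map_add, map_add, (tt W _).t_inc, (tt T p).t_inc]
        abel)
      (fun Y q q' v v' ⟨x, hxq, hv⟩ ⟨y, hyq, hv'⟩ => by
        refine ⟨x + y, by rw [H.val_add]; exact (B.πQ_add₂ _ _ _ _).trans (congrArg₂ (· + ·) hxq hyq), ?_⟩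
        have e : (⟨(x + y).1, (x + y).2.trans (res_comp P g Y.hom p)⟩ : H.Fib Y.left (res P (Y.hom ≫ g) p)) =
          @HAdd.hAdd (H.Fib Y.left (res P (Y.hom ≫ g) p)) (H.Fib Y.left (res P (Y.hom ≫ g) p)) (H.Fib Y.left (res P (Y.hom ≫ g) p)) _ ⟨x.1, x.2.trans (res_comp P g Y.hom p)⟩ ⟨y.1, y.2.trans (res_comp P g Y.hom p)⟩ := rfl
        show v + v' = _
        rw [e, map_add, map_add, hv, hv']
        abel)
      (fun Y q => by
        obtain ⟨S, hS', h⟩ := Half.exists_fib (H := H) (res P Y.hom (res P g p)) q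
        refine ⟨_, sieve_over Y hS', fun Y' k hk => ?_⟩
        obtain ⟨x, hx⟩ := h k.left ((Sieve.overEquiv_symm_iff _ _).1 hk)
        let y : H.Fib Y'.left (res P Y'.hom (res P g p)) := ⟨x.1, x.2.trans (by rw [res_comp, Over.w k])⟩
        exact ⟨_, y, hx, rfl⟩)
    refine ⟨h, hom_ext_local _ _ fun Y q => ?_⟩
    obtain ⟨S, hS', hl⟩ := Half.exists_fib (H := H) (res P Y.hom (res P g p)) q
    refine ⟨_, sieve_over Y hS', fun Y' k hk => ?_⟩
    obtain ⟨x₀, hx⟩ := hl k.left ((Sieve.overEquiv_symm_iff _ _).1 hk)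
    let x : H.Fib Y'.left (res P Y'.hom (res P g p)) := ⟨x₀.1, x₀.2.trans (by rw [res_comp, Over.w k])⟩
    let x' : H.Fib Y'.left (res P (Y'.hom ≫ g) p) := ⟨x.1, x.2.trans (res_comp P g Y'.hom p)⟩
    have a1 := hh Y' _ _ ⟨x, hx, rfl⟩
    have b1 : (Φ W (res P g p)).hom.app (op Y') (res Q k.left q) = _ :=
      (congrArg _ hx.symm).trans (hΦ W (res P g p) Y'.hom x)
    have b2 : (Φ T p).hom.app (op (Over.mk (Y'.hom ≫ g))) (res Q k.left q) = _ :=
      (congrArg _ hx.symm).trans (hΦ T p (Y'.hom ≫ g) x')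
    show π.hom.app (op Y'.left) (h.hom.app (op Y') (res Q k.left q)) =
      (show X.obj.obj (op Y'.left) from (Φ W (res P g p)).hom.app (op Y') (res Q k.left q)) -
        (show X.obj.obj (op Y'.left) from (Φ T p).hom.app (op (Over.mk (Y'.hom ≫ g))) (res Q k.left q))
    erw [a1, b1, b2]
    rw [map_sub]
  -- the resulting morphism to the Ext sheaf
  let δa : ∀ T : C, (Q.over T ⟶ X.over T) →+ ((HomSh.extSh J Q 1).obj G).obj.obj (op T) := fun T =>
    AddMonoidHom.mk' (fun a => δ.hom.app (op T) a) (fun a b => map_add (δ.hom.app (op T)).hom a b)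
  let ε : P ⟶ (HomSh.extSh J Q 1).obj G := ⟨{
    app := fun T => AddCommGrpCat.ofHom (AddMonoidHom.mk' (fun p => δa T.unop (Φ T.unop p)) fun p p' => by
      obtain ⟨h, hh⟩ := hadd T.unop p p'
      have := hδ0 T.unop h
      rw [hh] at this
      change δa T.unop (Φ T.unop (p + p') - Φ T.unop p - Φ T.unop p') = 0 at this
      rw [map_sub, map_sub, sub_sub, sub_eq_zero] at this
      exact this)
    naturality := fun T T' g => AddCommGrpCat.ext fun p => by
      obtain ⟨h, hh⟩ := hres g.unop p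
      have := hδ0 T'.unop h
      rw [hh] at this
      change δa T'.unop (Φ T'.unop (res P g.unop p) - (show Q.over T'.unop ⟶ X.over T'.unop from (HomSh.homSh J Q X).obj.map g (Φ T.unop p))) = 0 at this
      rw [map_sub, sub_eq_zero] at this
      exact this.trans (NatTrans.naturality_apply δ.hom g (Φ T.unop p)) }⟩
  have hzero : δ.hom.app (op T) (Φ T p) = 0 := congr(($(h₂ ε)).hom.app (op T) p)
  obtain ⟨R, hR, hl⟩ := locally_lift hδ T (Φ T p) hzero
  refine ⟨R, hR, fun W g hg => ?_⟩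
  obtain ⟨ψ, hψ⟩ := hl g hg
  replace hψ : ψ ≫ (J.overPullback AddCommGrpCat.{u + 1} W).map π = (HomSh.homSh J Q X).obj.map g.op (Φ T p) :=
    (CGrpEx.HomExact.app_id_left J π Q W ψ).symm.trans hψ
  have hex := fun V => sections_exact hS V
  -- the lifted splitting
  let Φs : ∀ {V : C}, (V ⟶ W) → Q.obj.obj (op V) → B.E.obj.obj (op V) → Prop := fun {V} f q x =>
    ∃ h : B.πP V x = res P (f ≫ g) p, B.πQ V x = q ∧ (tt T p).t (f ≫ g) ⟨x, h⟩ = ψ.hom.app (op (Over.mk f)) q
  have hnat : ∀ {V V' : C} (k : V' ⟶ V) (f : V ⟶ W) (q : Q.obj.obj (op V)) (x : B.E.obj.obj (op V)),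
      Φs f q x → Φs (k ≫ f) (res Q k q) (resE B.E k x) := by
    intro V V' k f q x hx
    obtain ⟨h, hq, ht⟩ := hx
    have hk : res P k (res P (f ≫ g) p) = res P ((k ≫ f) ≫ g) p := by rw [res_comp, Category.assoc]
    refine ⟨(B.πP_map k x).trans ((congrArg (res P k) h).trans hk),
      (B.πQ_map k x).trans (congrArg (res Q k) hq), ?_⟩
    have h3 := (tt T p).t_map k (f ≫ g) ⟨x, h⟩
    rw [ht] at h3
    refine Eq.trans ?_ (h3.symm.trans (NatTrans.naturality_apply ψ.hom
      (Over.homMk k : Over.mk (k ≫ f) ⟶ Over.mk f).op q).symm)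
    exact (tt T p).t_congr (Category.assoc _ _ _) _ _ rfl
  have huniq : ∀ {V : C} (f : V ⟶ W) (q : Q.obj.obj (op V)) (x y : B.E.obj.obj (op V)),
      Φs f q x → Φs f q y → x = y := by
    intro V f q x y hx hy
    obtain ⟨h, hq, ht⟩ := hx
    obtain ⟨h', hq', ht'⟩ := hy
    obtain ⟨a, ha⟩ := H.exists_inc (⟨x, h⟩ : H.Fib V (res P (f ≫ g) p)) ⟨y, h'⟩ (hq.trans hq'.symm)
    have := ht'
    rw [← ha, map_add, ht, (tt T p).t_inc, add_eq_right] at this
    rw [(hex V).1 (this.trans (map_zero _).symm), map_zero, zero_add] at ha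
    exact congrArg Subtype.val ha
  have hloc : ∀ {V : C} (f : V ⟶ W) (q : Q.obj.obj (op V)), ∃ S ∈ J V, ∀ ⦃V' : C⦄ (k : V' ⟶ V), S k →
      ∃ x, Φs (k ≫ f) (res Q k q) x := by
    intro V f q
    obtain ⟨S, hS', h⟩ := Half.exists_fib (H := H) (res P (f ≫ g) p) q
    refine ⟨S, hS', fun V' k hk => ?_⟩
    obtain ⟨x₀, hx⟩ := h k hk
    let x : H.Fib V' (res P ((k ≫ f) ≫ g) p) := ⟨x₀.1, x₀.2.trans (by rw [res_comp, Category.assoc])⟩
    have e0 : π.hom.app (op V') ((tt T p).t ((k ≫ f) ≫ g) x - (show I.obj.obj (op V') from ψ.hom.app (op (Over.mk (k ≫ f))) (res Q k q))) = 0 := by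
      rw [map_sub, sub_eq_zero, ← hΦ T p _ x]
      refine Eq.trans ?_ (ConcreteCategory.congr_hom (NatTrans.congr_app (congrArg (fun z : Q.over W ⟶ X.over W => z.hom) hψ) (op (Over.mk (k ≫ f)))) (res Q k q)).symm
      exact congrArg _ hx
    obtain ⟨a, ha⟩ := (hex V').2 _ e0
    refine ⟨(H.inc V' _ (-a) + x).1, (H.inc V' _ (-a) + x).2, ?_, ?_⟩
    · rw [H.inc_add]; exact (B.πQ_act V' _ _).trans hx
    · refine (congrArg ((tt T p).t ((k ≫ f) ≫ g)) (Subtype.ext rfl : _ = H.inc V' _ (-a) + x)).trans ?_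
      rw [map_add, (tt T p).t_inc, map_neg, ha]
      exact (congrArg (· + _) (neg_sub _ _)).trans (sub_add_cancel _ _)
  have hval : ∀ (V : C) (f : V ⟶ W) (q : Q.obj.obj (op V)), ∃ x, Φs f q x := fun V f q => by
    obtain ⟨x, S, hS', hx⟩ := exists_glueE B.E (T := V) (fun {V'} k x => Φs (k ≫ f) (res Q k q) x)
      (fun k' k x h => by
        have := hnat k' _ _ _ h
        rw [res_comp, ← Category.assoc] at this
        exact this)
      (fun k x y => huniq _ _ x y) (hloc f q)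
    have h : B.πP V x = res P (f ≫ g) p := sepA P hS' fun V' k hk => by
      obtain ⟨h, -⟩ := hx k hk
      exact (B.πP_map k x).symm.trans (h.trans (by rw [res_comp, Category.assoc]))
    refine ⟨x, h, sepA Q hS' fun V' k hk => (B.πQ_map k x).symm.trans (hx k hk).2.1, sepA I hS' fun V' k hk => ?_⟩
    obtain ⟨h', -, ht⟩ := hx k hk
    rw [(tt T p).t_map]
    refine Eq.trans ?_ (ht.trans (NatTrans.naturality_apply ψ.hom (Over.homMk k : Over.mk (k ≫ f) ⟶ Over.mk f).op q))
    exact (tt T p).t_congr (Category.assoc _ _ _).symm _ _ rfl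
  choose s hs using hval
  refine ⟨{ s := s, πP_s := fun V f q => (hs V f q).1.trans (res_comp P g f p).symm,
            πQ_s := fun V f q => (hs V f q).2.1,
            s_map := fun {V V'} k f q => huniq _ _ _ _ (hnat k f q _ (hs V f q)) (hs _ _ _),
            s_add := fun V f q q' => ?_ }⟩
  obtain ⟨h, hq, ht⟩ := hs V f q
  obtain ⟨h', hq', ht'⟩ := hs V f q'
  refine huniq f (q + q') _ _ (hs V f (q + q')) ⟨(B.πP_add₂ _ _ _ _).trans h,
    (B.πQ_add₂ _ _ _ _).trans (congrArg₂ (· + ·) hq hq'), ?_⟩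
  refine Eq.trans (congrArg ((tt T p).t (f ≫ g)) (?_ : _ = @HAdd.hAdd (H.Fib V (res P (f ≫ g) p)) (H.Fib V (res P (f ≫ g) p)) (H.Fib V (res P (f ≫ g) p)) _ ⟨s V f q, h⟩ ⟨s V f q', h'⟩)) ?_
  · rfl
  · rw [map_add, ht, ht']
    exact (map_add (ψ.hom.app (op (Over.mk f))).hom q q').symm

end Groth.Agent.Biext68
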