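import Groth.Agent.Biext68.Loc
import Mathlib.Algebra.Homology.DerivedCategory.Ext.ExactSequences

/-!
# Triviality of biextensions from the vanishing of `Ext¹(P, Hom(Q, G))` and `Hom(P, Ext¹(Q, G))`
-/

set_option autoImplicit false
set_option backward.isDefEq.respectTransparency false
set_option backward.isDefEq.respectTransparency.types false
set_option maxHeartbeats 800000

universe u

open CategoryTheory CategoryTheory.Limits Opposite

noncomputable section

namespace Groth.Agent.Biext68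

variable {C : Type (u + 1)} [Category.{u} C] {J : GrothendieckTopology C}
  {P Q G : Sheaf J AddCommGrpCat.{u + 1}} (B : Biext J P Q G)

/-- raw families: a section of `P` and values above it -/
abbrev Raw (T : C) : Type (u + 1) :=
  P.obj.obj (op T) × (∀ (W : C) (_ : W ⟶ T) (q : Q.obj.obj (op W)), (half₁ B).Fib W q)

/-- the conditions to be a splitting -/
def IsSpl {T : C} (a : Raw B T) : Prop :=
  (∀ (W : C) (f : W ⟶ T) (q : Q.obj.obj (op W)), B.πP W (a.2 W f q).1 = res P f a.1) ∧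
  (∀ (W W' : C) (g : W' ⟶ W) (f : W ⟶ T) (q : Q.obj.obj (op W)),
    resE B.E g (a.2 W f q).1 = (a.2 W' (g ≫ f) (res Q g q)).1) ∧
  (∀ (W : C) (f : W ⟶ T) (q q' : Q.obj.obj (op W)) (h : B.πP W (a.2 W f q).1 = B.πP W (a.2 W f q').1),
    (a.2 W f (q + q')).1 = B.add₂ W (a.2 W f q).1 (a.2 W f q').1 h)

theorem add₂_congr' {T : C} {x x' y y' : B.E.obj.obj (op T)} (hx : x = x') (hy : y = y')
    (h : B.πP T x = B.πP T y) : B.add₂ T x y h = B.add₂ T x' y' (by rw [← hx, ← hy, h]) := by
  subst hx hy; rfl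

theorem add₂_act' {T : C} (g : G.obj.obj (op T)) (x y : B.E.obj.obj (op T)) (h : B.πP T x = B.πP T y) :
    B.add₂ T x (B.act T g y) (h.trans (B.πP_act T g y).symm) = B.act T g (B.add₂ T x y h) :=
  (half₂ B).add_act' g x y h

theorem zero₁_add₂ (W : C) (q q' : Q.obj.obj (op W))
    (h : B.πP W ((half₁ B).zero W q) = B.πP W ((half₁ B).zero W q')) :
    (half₁ B).zero W (q + q') = B.add₂ W ((half₁ B).zero W q) ((half₁ B).zero W q') h := by
  refine ((half₁ B).eq_zero_of_idem ?_ ?_).symm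
  · exact (B.πQ_add₂ _ _ _ _).trans (congrArg₂ (· + ·) ((half₁ B).πP_zero q) ((half₁ B).πP_zero q'))
  · refine (B.compat W _ _ _ _ h h rfl rfl).trans ?_
    exact add₂_congr' B ((half₁ B).zero_idem q) ((half₁ B).zero_idem q') _

theorem inc₁_add₂ (W : C) (g g' : G.obj.obj (op W)) (q q' : Q.obj.obj (op W))
    (h : B.πP W ((half₁ B).inc W q g).1 = B.πP W ((half₁ B).inc W q' g').1) :
    ((half₁ B).inc W (q + q') (g + g')).1 = B.add₂ W ((half₁ B).inc W q g).1 ((half₁ B).inc W q' g').1 h := by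
  have h0 : B.πP W ((half₁ B).zero W q) = B.πP W ((half₁ B).zero W q') :=
    ((half₁ B).πQ_zero q).trans ((half₁ B).πQ_zero q').symm
  show B.act W (g + g') ((half₁ B).zero W (q + q')) =
    B.add₂ W (B.act W g ((half₁ B).zero W q)) (B.act W g' ((half₁ B).zero W q')) _
  rw [B.add₂_act W g ((half₁ B).zero W q) _ (h0.trans (B.πP_act W _ _).symm),
    add₂_act' B g' ((half₁ B).zero W q) ((half₁ B).zero W q') h0, ← B.add_act, ← zero₁_add₂ B W q q' h0]

/-- splittings above sections -/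
def splGrp (T : C) : AddSubgroup (Raw B T) where
  carrier := {a | IsSpl B a}
  zero_mem' := by
    refine ⟨fun W f q => ?_, fun W W' g f q => (half₁ B).res_zero g q, fun W f q q' h => zero₁_add₂ B W q q' h⟩
    exact ((half₁ B).πQ_zero q).trans (map_zero (P.obj.map f.op).hom).symm
  add_mem' := by
    rintro a b ⟨a1, a2, a3⟩ ⟨b1, b2, b3⟩
    refine ⟨fun W f q => ?_, fun W W' g f q => ?_, fun W f q q' h => ?_⟩
    · refine (B.πP_add₁ W _ _ _).trans ?_
      rw [show B.πP W (a.2 W f q).1 = _ from a1 W f q, show B.πP W (b.2 W f q).1 = _ from b1 W f q]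
      exact (map_add (P.obj.map f.op).hom a.1 b.1).symm
    · exact (B.add₁_map g _ _ _).trans (add₁_congr' B (a2 W W' g f q) (b2 W W' g f q) _)
    · have ha := (a1 W f q).trans (a1 W f q').symm
      have hb := (b1 W f q).trans (b1 W f q').symm
      refine Eq.trans (add₁_congr' B (a3 W f q q' ha) (b3 W f q q' hb) ?_) ?_
      · exact ((a.2 W f (q + q')).2).trans ((b.2 W f (q + q')).2).symm
      · exact B.compat W _ _ _ _ ha hb ((a.2 W f q).2.trans (b.2 W f q).2.symm)
          ((a.2 W f q').2.trans (b.2 W f q').2.symm)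
  neg_mem' := by
    rintro a ⟨a1, a2, a3⟩
    have e1 : ∀ (W : C) (f : W ⟶ T) (q : Q.obj.obj (op W)),
        B.πP W (a.2 W f q).1 + B.πP W (-(a.2 W f q)).1 = 0 := fun W f q => by
      refine ((B.πP_add₁ W _ _ ((a.2 W f q).2.trans (-(a.2 W f q)).2.symm)).symm.trans ?_)
      have := congrArg Subtype.val (add_neg_cancel (a.2 W f q))
      exact (congrArg (B.πP W) this).trans ((half₁ B).πQ_zero q)
    have n1 : ∀ (W : C) (f : W ⟶ T) (q : Q.obj.obj (op W)),
        B.πP W (-(a.2 W f q)).1 = res P f (-a.1) := fun W f q => by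
      have := e1 W f q
      rw [show B.πP W (a.2 W f q).1 = _ from a1 W f q] at this
      exact (eq_neg_of_add_eq_zero_right this).trans (map_neg (P.obj.map f.op).hom a.1).symm
    refine ⟨n1, fun W W' g f q => ?_, fun W f q q' h => ?_⟩
    · let r := (half₁ B).resF g (c := q) (c' := res Q g q) rfl
      have hr : r (a.2 W f q) = a.2 W' (g ≫ f) (res Q g q) := Subtype.ext (a2 W W' g f q)
      have := map_neg r (a.2 W f q)
      rw [hr] at this
      exact congrArg Subtype.val this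
    · have ha := (a1 W f q).trans (a1 W f q').symm
      have hx : B.πQ W (B.add₂ W (-(a.2 W f q)).1 (-(a.2 W f q')).1 h) = q + q' :=
        (B.πQ_add₂ _ _ _ _).trans (congrArg₂ (· + ·) (-(a.2 W f q)).2 (-(a.2 W f q')).2)
      let x : (half₁ B).Fib W (q + q') := ⟨_, hx⟩
      have key : a.2 W f (q + q') + x = 0 := ?_
      · show (-(a.2 W f (q + q'))).1 = x.1
        exact congrArg Subtype.val (@neg_eq_of_add_eq_zero_right ((half₁ B).Fib W (q + q')) _ _ _ key)
      refine Subtype.ext ?_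
      refine Eq.trans (add₁_congr' B (a3 W f q q' ha) rfl ((a.2 W f (q + q')).2.trans hx.symm)) ?_
      refine (B.compat W _ _ _ _ ha h ((a.2 W f q).2.trans (-(a.2 W f q)).2.symm)
        ((a.2 W f q').2.trans (-(a.2 W f q')).2.symm)).trans ?_
      refine (add₂_congr' B (congrArg Subtype.val (add_neg_cancel (a.2 W f q)))
        (congrArg Subtype.val (add_neg_cancel (a.2 W f q'))) _).trans ?_
      exact (zero₁_add₂ B W q q' _).symm

theorem spl {T : C} {a : Raw B T} (h : a ∈ splGrp B T) : IsSpl B a := h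

theorem mem_spl {T : C} {a : Raw B T} (h : IsSpl B a) : a ∈ splGrp B T := h

/-- restriction of raw families -/
def resRaw {T T' : C} (g : T' ⟶ T) : Raw B T →+ Raw B T' :=
  AddMonoidHom.mk' (fun a => (res P g a.1, fun W f q => a.2 W (f ≫ g) q)) fun a b =>
    Prod.ext (map_add (P.obj.map g.op).hom a.1 b.1) rfl

theorem resRaw_mem {T T' : C} (g : T' ⟶ T) {a : Raw B T} (h : a ∈ splGrp B T) : resRaw B g a ∈ splGrp B T' :=
  mem_spl B ⟨fun W f q => ((spl B h).1 W (f ≫ g) q).trans (res_comp P g f a.1).symm,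
    fun W W' k f q => ((spl B h).2.1 W W' k (f ≫ g) q).trans (by
      show _ = (a.2 W' ((k ≫ f) ≫ g) (res Q k q)).1
      rw [Category.assoc]),
    fun W f q q' h' => (spl B h).2.2 W (f ≫ g) q q' h'⟩

/-- the presheaf of splittings -/
def splPre : Cᵒᵖ ⥤ AddCommGrpCat.{u + 1} where
  obj T := AddCommGrpCat.of (splGrp B T.unop)
  map {T T'} g := AddCommGrpCat.ofHom (AddMonoidHom.mk' (fun a => ⟨resRaw B g.unop a.1, resRaw_mem B g.unop a.2⟩)
    fun a b => Subtype.ext (map_add (resRaw B g.unop) a.1 b.1))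
  map_id T := AddCommGrpCat.ext fun a => Subtype.ext (Prod.ext (res_id P a.1.1)
    (funext fun W => funext fun f => funext fun q => by
      show a.1.2 W (f ≫ 𝟙 _) q = _
      rw [Category.comp_id]; rfl))
  map_comp g g' := AddCommGrpCat.ext fun a => Subtype.ext (Prod.ext (res_comp P g.unop g'.unop a.1.1).symm
    (funext fun W => funext fun f => funext fun q => by
      show a.1.2 W (f ≫ g'.unop ≫ g.unop) q = a.1.2 W ((f ≫ g'.unop) ≫ g.unop) q
      rw [Category.assoc]))

/-- a homomorphism gives a splitting above zero -/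
def homRaw (T : C) : (Q.over T ⟶ G.over T) →+ Raw B T :=
  AddMonoidHom.mk' (fun a => (0, fun W f q => (half₁ B).inc W q (a.hom.app (op (Over.mk f)) q))) fun a b =>
    Prod.ext (add_zero 0).symm (funext fun W => funext fun f => funext fun q => map_add ((half₁ B).inc W q) _ _)

theorem homRaw_mem (T : C) (a : Q.over T ⟶ G.over T) : homRaw B T a ∈ splGrp B T := by
  refine mem_spl B ⟨fun W f q => ?_, fun W W' g f q => ?_, fun W f q q' h => ?_⟩
  · exact ((B.πP_act W _ _).trans ((half₁ B).πQ_zero q)).trans (map_zero (P.obj.map f.op).hom).symm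
  · refine (B.act_map g _ _).trans ?_
    rw [show B.E.obj.map g.op ((half₁ B).zero W q) = _ from (half₁ B).res_zero g q]
    exact congrArg (fun z => B.act W' z _)
      (NatTrans.naturality_apply a.hom (Over.homMk g : Over.mk (g ≫ f) ⟶ Over.mk f).op q).symm
  · refine Eq.trans ?_ (inc₁_add₂ B W _ _ q q' h)
    exact congrArg (fun z => ((half₁ B).inc W (q + q') z).1) (map_add (a.hom.app (op (Over.mk f))).hom q q')

theorem exists_homRaw (T : C) (e : Raw B T) (he : e ∈ splGrp B T) (h0 : e.1 = 0) : ∃ a, homRaw B T a = e := by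
  obtain ⟨e1, e2, e3⟩ := spl B he
  have hg : ∀ (W : C) (f : W ⟶ T) (q : Q.obj.obj (op W)), ∃ g, (half₁ B).inc W q g = e.2 W f q := fun W f q => by
    obtain ⟨g, hg⟩ := (half₁ B).exists_inc (0 : (half₁ B).Fib W q) (e.2 W f q) (by
      refine ((half₁ B).πQ_zero q).trans ?_
      refine Eq.trans ?_ (e1 W f q).symm
      rw [h0]; exact (map_zero (P.obj.map f.op).hom).symm)
    exact ⟨g, by rw [add_zero] at hg; exact hg⟩
  choose γ hγ using hg
  have hinj := fun (W : C) (q : Q.obj.obj (op W)) => (half₁ B).inc_injective q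
  have γnat : ∀ {W W' : C} (k : W' ⟶ W) (f : W ⟶ T) (q : Q.obj.obj (op W)),
      res G k (γ W f q) = γ W' (k ≫ f) (res Q k q) := fun {W W'} k f q => hinj _ _ (by
    rw [hγ, ← (half₁ B).inc_res k rfl, hγ]
    exact Subtype.ext (e2 W W' k f q))
  have γadd : ∀ (W : C) (f : W ⟶ T) (q q' : Q.obj.obj (op W)), γ W f (q + q') = γ W f q + γ W f q' :=
    fun W f q q' => hinj _ _ (by
      rw [hγ]
      refine Subtype.ext ?_
      have ha := (e1 W f q).trans (e1 W f q').symm
      rw [e3 W f q q' ha, add₂_congr' B (congrArg Subtype.val (hγ W f q)).symm (congrArg Subtype.val (hγ W f q')).symm]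
      exact (inc₁_add₂ B W _ _ q q' _).symm)
  let a : Q.over T ⟶ G.over T := ⟨{
    app := fun Y => AddCommGrpCat.ofHom (AddMonoidHom.mk' (fun q => γ Y.unop.left Y.unop.hom q)
      (fun q q' => γadd _ _ q q'))
    naturality := fun Y Y' k => AddCommGrpCat.ext fun q => by
      show γ Y'.unop.left Y'.unop.hom (res Q k.unop.left q) = res G k.unop.left (γ Y.unop.left Y.unop.hom q)
      rw [γnat, Over.w k.unop] }⟩
  exact ⟨a, Prod.ext h0.symm (funext fun W => funext fun f => funext fun q => hγ W f q)⟩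

theorem homRaw_injective (T : C) : Function.Injective (homRaw B T) := fun a b h => by
  refine Sheaf.hom_ext (NatTrans.ext (funext fun Y => AddCommGrpCat.ext fun q => ?_))
  exact (half₁ B).inc_injective (W := Y.unop.left) q
    (congrFun (congrFun (congrFun (congrArg Prod.snd h) Y.unop.left) Y.unop.hom) q)

/-- the inclusion of the internal Hom sheaf -/
def homPre : (HomSh.homSh J Q G).obj ⟶ splPre B where
  app T := AddCommGrpCat.ofHom (AddMonoidHom.mk'
    (fun a => ⟨homRaw B T.unop a, homRaw_mem B T.unop a⟩)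
    fun a b => Subtype.ext (map_add (homRaw B T.unop) a b))
  naturality T T' g := AddCommGrpCat.ext fun a => Subtype.ext (Prod.ext (map_zero (P.obj.map g).hom).symm rfl)

variable [HasSheafify J AddCommGrpCat.{u + 1}] [∀ T : C, HasSheafify (J.over T) AddCommGrpCat.{u + 1}]
  [EnoughInjectives (Sheaf J AddCommGrpCat.{u + 1})] [HasInjectiveResolutions (Sheaf J AddCommGrpCat.{u + 1})]
  [HasExt.{u + 1} (Sheaf J AddCommGrpCat.{u + 1})]

theorem isTrivial (h₁ : ∀ e : Abelian.Ext P (HomSh.homSh J Q G) 1, e = 0)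
    (h₂ : ∀ φ : P ⟶ (HomSh.extSh J Q 1).obj G, φ = 0) : Biext.IsTrivial J B := by
  -- local splittings
  let j := Injective.ι G
  have hS : (ShortComplex.mk j (cokernel.π j) (cokernel.condition j)).ShortExact :=
    { exact := ShortComplex.exact_cokernel _ }
  have hloc : ∀ (T : C) (p : P.obj.obj (op T)), ∃ R ∈ J T, ∀ ⦃W : C⦄ (g : W ⟶ T), R g →
      ∃ e : splGrp B W, e.1.1 = res P g p := fun T p => by
    obtain ⟨R, hR, h⟩ := exists_spl B hS h₂ T p
    refine ⟨R, hR, fun W g hg => ?_⟩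
    obtain ⟨σ⟩ := h g hg
    exact ⟨⟨(res P g p, fun V f q => ⟨σ.s V f q, σ.πQ_s V f q⟩), mem_spl B ⟨fun V f q => σ.πP_s V f q,
      fun V V' k f q => σ.s_map k f q, fun V f q q' _ => σ.s_add V f q q'⟩⟩, rfl⟩
  -- the extension by the Hom sheaf
  let k := Injective.ι (HomSh.homSh J Q G)
  let l := cokernel.π k
  have hK : (ShortComplex.mk k l (cokernel.condition k)).ShortExact :=
    { exact := ShortComplex.exact_cokernel _ }
  have hkl : ∀ (W : C) a, l.hom.app (op W) (k.hom.app (op W) a) = 0 := fun W a =>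
    congr(($(cokernel.condition k)).hom.app (op W) a)
  haveI : Injective (Injective.under (HomSh.homSh J Q G)).obj := injective_presheaf _
  haveI : ∀ T, Mono ((homPre B).app T) := fun T =>
    (AddCommGrpCat.mono_iff_injective _).2 fun a b h => homRaw_injective B T.unop (congrArg Subtype.val h)
  haveI : Mono (homPre B) := NatTrans.mono_of_mono_app _
  let τ := Injective.factorThru k.hom (homPre B)
  let t : ∀ T : C, splGrp B T →+ (Injective.under (HomSh.homSh J Q G)).obj.obj (op T) := fun T => (τ.app (op T)).hom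
  have t_map : ∀ {T W : C} (g : W ⟶ T) (e : splGrp B T),
      t W ⟨resRaw B g e.1, resRaw_mem B g e.2⟩ = res _ g (t T e) := fun {T W} g e =>
    NatTrans.naturality_apply τ g.op e
  have t_inc : ∀ (T : C) (a : Q.over T ⟶ G.over T), t T ⟨homRaw B T a, homRaw_mem B T a⟩ = k.hom.app (op T) a :=
    fun T a => ConcreteCategory.congr_hom (NatTrans.congr_app (Injective.comp_factorThru k.hom (homPre B)) (op T)) a
  -- elements with the same first component differ by a homomorphism
  have hdiff : ∀ (T : C) (e e' : splGrp B T), e.1.1 = e'.1.1 → ∃ a, e' = e + ⟨homRaw B T a, homRaw_mem B T a⟩ :=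
    fun T e e' h => by
      obtain ⟨a, ha⟩ := exists_homRaw B T (e' - e).1 (e' - e).2 (sub_eq_zero.2 h.symm)
      refine ⟨a, ?_⟩
      rw [show (⟨homRaw B T a, homRaw_mem B T a⟩ : splGrp B T) = e' - e from Subtype.ext ha]
      abel
  obtain ⟨θ, hθ⟩ := exists_desc P (cokernel k) (fun T p v => ∃ e : splGrp B T, e.1.1 = p ∧ l.hom.app (op T) (t T e) = v)
    (fun {T W} g p v ⟨e, he, hv⟩ => ⟨⟨resRaw B g e.1, resRaw_mem B g e.2⟩, congrArg (res P g) he, by
      rw [t_map, ← hv]; exact NatTrans.naturality_apply l.hom g.op _⟩)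
    (fun T p v v' ⟨e, he, hv⟩ ⟨e', he', hv'⟩ => by
      obtain ⟨a, rfl⟩ := hdiff T e e' (he.trans he'.symm)
      rw [← hv, ← hv', map_add, map_add, t_inc, hkl, add_zero])
    (fun T p p' v v' ⟨e, he, hv⟩ ⟨e', he', hv'⟩ =>
      ⟨e + e', congrArg₂ (· + ·) he he', by rw [map_add, map_add, hv, hv']⟩)
    (fun T p => by
      obtain ⟨R, hR, h⟩ := hloc T p
      exact ⟨R, hR, fun W g hg => let ⟨e, he⟩ := h g hg; ⟨_, e, he, rfl⟩⟩)
  -- the lift
  obtain ⟨x₂, hx₂⟩ := Abelian.Ext.covariant_sequence_exact₃ P hK (Abelian.Ext.mk₀ θ) (zero_add 1) (h₁ _)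
  obtain ⟨ψ, rfl⟩ := (Abelian.Ext.mk₀_bijective P _).2 x₂
  rw [Abelian.Ext.mk₀_comp_mk₀] at hx₂
  have hψ : ψ ≫ l = θ := (Abelian.Ext.mk₀_bijective P _).1 hx₂
  -- the splitting
  let Φ : ∀ {T : C}, P.obj.obj (op T) → Q.obj.obj (op T) → B.E.obj.obj (op T) → Prop := fun {T} p q x =>
    ∃ e : splGrp B T, e.1.1 = p ∧ t T e = ψ.hom.app (op T) p ∧ (e.1.2 T (𝟙 T) q).1 = x
  have hnat : ∀ {T W : C} (g : W ⟶ T) (p : P.obj.obj (op T)) (q : Q.obj.obj (op T)) (x : B.E.obj.obj (op T)),
      Φ p q x → Φ (res P g p) (res Q g q) (resE B.E g x) := by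
    intro T W g p q x hx
    obtain ⟨e, he, ht, hx⟩ := hx
    refine ⟨⟨resRaw B g e.1, resRaw_mem B g e.2⟩, congrArg (res P g) he, ?_, ?_⟩
    · rw [t_map, ht]; exact (NatTrans.naturality_apply ψ.hom g.op p).symm
    · rw [← hx, (spl B e.2).2.1 T W g (𝟙 T) q]
      show (e.1.2 W (𝟙 W ≫ g) _).1 = _
      rw [Category.id_comp, Category.comp_id]
  have huniqE : ∀ {T : C} (e e' : splGrp B T), e.1.1 = e'.1.1 → t T e = t T e' → e = e' := fun {T} e e' h ht => by
    obtain ⟨a, rfl⟩ := hdiff T e e' h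
    rw [map_add, t_inc, left_eq_add] at ht
    obtain rfl := (sections_exact hK T).1 (ht.trans (map_zero (k.hom.app (op T)).hom).symm)
    rw [show (⟨homRaw B T 0, homRaw_mem B T 0⟩ : splGrp B T) = 0 from Subtype.ext (map_zero (homRaw B T)), add_zero]
  have huniq : ∀ {T : C} (p : P.obj.obj (op T)) (q : Q.obj.obj (op T)) (x y : B.E.obj.obj (op T)),
      Φ p q x → Φ p q y → x = y := by
    intro T p q x y hx hy
    obtain ⟨e, he, ht, hx⟩ := hx
    obtain ⟨e', he', ht', hy⟩ := hy
    rw [← hx, ← hy, huniqE e e' (he.trans he'.symm) (ht.trans ht'.symm)]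
  have hlocal : ∀ (T : C) (p : P.obj.obj (op T)), ∃ R ∈ J T, ∀ ⦃W : C⦄ (g : W ⟶ T), R g →
      ∃ e : splGrp B W, e.1.1 = res P g p ∧ t W e = ψ.hom.app (op W) (res P g p) := fun T p => by
    obtain ⟨R, hR, h⟩ := hloc T p
    refine ⟨R, hR, fun W g hg => ?_⟩
    obtain ⟨e, he⟩ := h g hg
    have e0 : l.hom.app (op W) (t W e - ψ.hom.app (op W) (res P g p)) = 0 := by
      rw [map_sub, sub_eq_zero, ← hθ W _ _ ⟨e, he, rfl⟩, ← hψ]
      rfl
    obtain ⟨a, ha⟩ := (sections_exact hK W).2 _ e0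
    refine ⟨e - ⟨homRaw B W a, homRaw_mem B W a⟩, (sub_zero _).trans he, ?_⟩
    rw [map_sub, t_inc, ha, sub_sub_cancel]
  have hglue : ∀ (T : C) (p : P.obj.obj (op T)) (q : Q.obj.obj (op T)), ∃ x, ∃ R ∈ J T, ∀ ⦃W : C⦄ (g : W ⟶ T),
      R g → Φ (res P g p) (res Q g q) (resE B.E g x) := fun T p q =>
    exists_glueE B.E (T := T) (fun {W} g x => Φ (res P g p) (res Q g q) x)
      (fun g' g x h => by
        have := hnat g' _ _ _ h
        rw [res_comp, res_comp] at this
        exact this)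
      (fun g x y => huniq _ _ x y) (by
        obtain ⟨R, hR, h⟩ := hlocal T p
        exact ⟨R, hR, fun W g hg => let ⟨e, he, ht⟩ := h g hg; ⟨_, e, he, ht, rfl⟩⟩)
  choose σ R hR hσ using hglue
  have key : ∀ (T : C) (p : P.obj.obj (op T)) (q : Q.obj.obj (op T)) (x : B.E.obj.obj (op T)) (S : Sieve T),
      S ∈ J T → (∀ ⦃W : C⦄ (g : W ⟶ T), S g → Φ (res P g p) (res Q g q) (resE B.E g x)) → x = σ T p q :=
    fun T p q x S hS' h => sepE B.E (J.intersection_covering hS' (hR T p q)) fun W g hg =>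
      huniq _ _ _ _ (h g hg.1) (hσ T p q g hg.2)
  have hP : ∀ T p q, B.πP T (σ T p q) = p := fun T p q => sepA P (hR T p q) fun W g hg => by
    obtain ⟨e, he, -, hx⟩ := hσ T p q g hg
    refine (B.πP_map g (σ T p q)).symm.trans ?_
    show B.πP W (resE B.E g (σ T p q)) = _
    rw [← hx]
    exact ((spl B e.2).1 W (𝟙 W) _).trans ((res_id P _).trans he)
  have hQ : ∀ T p q, B.πQ T (σ T p q) = q := fun T p q => sepA Q (hR T p q) fun W g hg => by
    obtain ⟨e, -, -, hx⟩ := hσ T p q g hg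
    refine (B.πQ_map g (σ T p q)).symm.trans ?_
    show B.πQ W (resE B.E g (σ T p q)) = _
    rw [← hx]
    exact (e.1.2 W (𝟙 W) _).2
  refine ⟨{ σ := σ, πP_σ := hP, πQ_σ := hQ, σ_map := ?_, σ_add₁ := ?_, σ_add₂ := ?_ }⟩
  · intro T T' f p q
    refine key T' _ _ _ _ (J.pullback_stable f (hR T p q)) fun W g hg => ?_
    show Φ (res P g (res P f p)) (res Q g (res Q f q)) (resE B.E g (resE B.E f (σ T p q)))
    rw [res_comp, res_comp, resE_comp]
    exact hσ T p q (g ≫ f) hg
  · intro T p p' q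
    refine (key T _ _ _ _ (J.intersection_covering (hR T p q) (hR T p' q)) fun W g hg => ?_).symm
    obtain ⟨e, he, ht, hx⟩ := hσ T p q g hg.1
    obtain ⟨e', he', ht', hx'⟩ := hσ T p' q g hg.2
    show Φ (P.obj.map g.op (p + p')) (res Q g q) (B.E.obj.map g.op (B.add₁ T _ _ _))
    rw [map_add, B.add₁_map]
    refine ⟨e + e', congrArg₂ (· + ·) he he', ?_, ?_⟩
    · rw [map_add (t W), ht, ht']; exact (map_add (ψ.hom.app (op W)).hom _ _).symm
    · exact add₁_congr' B hx hx' _
  · intro T p q q'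
    refine (key T _ _ _ _ (J.intersection_covering (hR T p q) (hR T p q')) fun W g hg => ?_).symm
    obtain ⟨e, he, ht, hx⟩ := hσ T p q g hg.1
    obtain ⟨e', he', ht', hx'⟩ := hσ T p q' g hg.2
    obtain rfl := huniqE e e' (he.trans he'.symm) (ht.trans ht'.symm)
    show Φ (res P g p) (Q.obj.map g.op (q + q')) (B.E.obj.map g.op (B.add₂ T _ _ _))
    rw [map_add, B.add₂_map]
    exact ⟨e, he, ht, ((spl B e.2).2.2 W (𝟙 W) _ _ (((spl B e.2).1 W (𝟙 W) _).trans ((spl B e.2).1 W (𝟙 W) _).symm)).trans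
      (add₂_congr' B hx hx' _)⟩

end Groth.Agent.Biext68
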