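import Groth.Agent.Biext68.Half

/-!
# Pushing the fibres of a biextension into an injective sheaf
-/

set_option autoImplicit false
set_option backward.isDefEq.respectTransparency false
set_option backward.isDefEq.respectTransparency.types false

universe u

open CategoryTheory CategoryTheory.Limits Opposite

noncomputable section

namespace Groth.Agent.Biext68

variable {C : Type (u + 1)} [Category.{u} C] {J : GrothendieckTopology C}
  {P Q G : Sheaf J AddCommGrpCat.{u + 1}}

namespace Half

variable (H : Half P Q G)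

/-- a trivialisation, with values in a bigger sheaf, of the fibre over a section -/
structure Push {I : Sheaf J AddCommGrpCat.{u + 1}} (j : G ⟶ I) (T : C) (p : P.obj.obj (op T)) where
  t : ∀ {W : C} (f : W ⟶ T), H.Fib W (res P f p) →+ I.obj.obj (op W)
  t_map : ∀ {W W' : C} (g : W' ⟶ W) (f : W ⟶ T) (x : H.Fib W (res P f p)),
    res I g (t f x) = t (g ≫ f) (H.resF g (res_comp P f g p) x)
  t_inc : ∀ {W : C} (f : W ⟶ T) (a : G.obj.obj (op W)), t f (H.inc W _ a) = j.hom.app (op W) a

theorem inc_res {W W' : C} (g : W' ⟶ W) {c : P.obj.obj (op W)} {c' : P.obj.obj (op W')} (h : res P g c = c')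
    (a : G.obj.obj (op W)) : H.resF g h (H.inc W c a) = H.inc W' c' (res G g a) := by
  subst h
  refine Subtype.ext ?_
  show resE H.E g (H.act W a (H.zero W c)) = H.act W' (res G g a) (H.zero W' (res P g c))
  rw [← H.res_zero]
  exact H.act_map g a _

theorem inc_injective {W : C} (c : P.obj.obj (op W)) : Function.Injective (H.inc W c) := fun _ _ h =>
  H.act_inj (congrArg Subtype.val h)

/-- the presheaf of fibres over a section -/
def fibPre (T : C) (p : P.obj.obj (op T)) : (Over T)ᵒᵖ ⥤ AddCommGrpCat.{u + 1} where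
  obj Y := AddCommGrpCat.of (H.Fib Y.unop.left (res P Y.unop.hom p))
  map {Y Y'} k := AddCommGrpCat.ofHom (H.resF k.unop.left (by rw [res_comp, Over.w k.unop]))
  map_id Y := AddCommGrpCat.ext fun x => Subtype.ext (resE_id H.E x.1)
  map_comp k l := AddCommGrpCat.ext fun x => Subtype.ext (resE_comp H.E k.unop.left l.unop.left x.1).symm

/-- the inclusion of the kernel -/
def incPre (T : C) (p : P.obj.obj (op T)) : (G.over T).obj ⟶ H.fibPre T p where
  app Y := AddCommGrpCat.ofHom (H.inc Y.unop.left _)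
  naturality Y Y' k := AddCommGrpCat.ext fun a => (H.inc_res k.unop.left (c' := res P Y'.unop.hom p) (by rw [res_comp, Over.w k.unop]) a).symm

theorem exists_push [HasSheafify J AddCommGrpCat.{u + 1}] (T : C) [HasSheafify (J.over T) AddCommGrpCat.{u + 1}]
    {I : Sheaf J AddCommGrpCat.{u + 1}} [Injective I] (j : G ⟶ I) (p : P.obj.obj (op T)) :
    Nonempty (H.Push j T p) := by
  haveI : Injective (I.over T) := CGrpEx.HomExact.injective_over J T I
  haveI : Injective (I.over T).obj := injective_presheaf (I.over T)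
  haveI : ∀ Y, Mono ((H.incPre T p).app Y) := fun Y =>
    (AddCommGrpCat.mono_iff_injective _).2 (H.inc_injective (W := Y.unop.left) (res P Y.unop.hom p))
  haveI : Mono (H.incPre T p) := NatTrans.mono_of_mono_app _
  let j' : (G.over T).obj ⟶ (I.over T).obj := ((J.overPullback AddCommGrpCat.{u + 1} T).map j).hom
  let τ := Injective.factorThru j' (H.incPre T p)
  exact ⟨{
    t := fun {W} f => (τ.app (op (Over.mk f))).hom
    t_map := fun {W W'} g f x =>
      (NatTrans.naturality_apply τ (Over.homMk g : Over.mk (g ≫ f) ⟶ Over.mk f).op x).symm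
    t_inc := fun {W} f a => ConcreteCategory.congr_hom
      (NatTrans.congr_app (Injective.comp_factorThru j' (H.incPre T p)) (op (Over.mk f))) a }⟩

variable {H}
variable {I : Sheaf J AddCommGrpCat.{u + 1}} {j : G ⟶ I} {T : C} {p : P.obj.obj (op T)} (t : H.Push j T p)

theorem Push.t_act {W : C} (f : W ⟶ T) (g : G.obj.obj (op W)) (x : H.Fib W (res P f p))
    (h : H.πP W (H.act W g x.1) = res P f p) :
    t.t f ⟨H.act W g x.1, h⟩ = j.hom.app (op W) g + t.t f x := by
  rw [← t.t_inc f g, ← map_add]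
  exact congrArg _ (H.inc_add g x).symm

theorem exists_fib {W : C} (c : P.obj.obj (op W)) (q : Q.obj.obj (op W)) :
    ∃ S ∈ J W, ∀ ⦃V : C⦄ (g : V ⟶ W), S g → ∃ x : H.Fib V (res P g c), H.πQ V x.1 = res Q g q := by
  obtain ⟨R, hR, h⟩ := H.locallySurjective W c q
  exact ⟨R, hR, fun V g hg => let ⟨x, h1, h2⟩ := h g hg; ⟨⟨x, h1⟩, h2⟩⟩

variable {X : Sheaf J AddCommGrpCat.{u + 1}} (π : I ⟶ X) (hπ : j ≫ π = 0)

include hπ in
theorem π_j (W : C) (g : G.obj.obj (op W)) : π.hom.app (op W) (j.hom.app (op W) g) = 0 :=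
  congr(($hπ).hom.app (op W) g)

include hπ in
theorem Push.exists_phi :
    ∃ φ : Q.over T ⟶ X.over T, ∀ {W : C} (f : W ⟶ T) (x : H.Fib W (res P f p)),
      φ.hom.app (op (Over.mk f)) (H.πQ W x.1) = π.hom.app (op W) (t.t f x) := by
  obtain ⟨φ, hφ⟩ := exists_desc (Q.over T) (X.over T) (fun Y q v =>
      ∃ x : H.Fib Y.left (res P Y.hom p), H.πQ Y.left x.1 = q ∧ π.hom.app (op Y.left) (t.t Y.hom x) = v)
    (fun {Y Y'} k q v ⟨x, hq, hv⟩ => by
      have hk : res P k.left (res P Y.hom p) = res P Y'.hom p := by rw [res_comp, Over.w k]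
      refine ⟨H.resF k.left hk x, (H.πQ_map k.left x.1).trans (congrArg (res Q k.left) hq), ?_⟩
      show _ = res X k.left v
      rw [← hv]
      refine Eq.trans ?_ (NatTrans.naturality_apply π.hom k.left.op _)
      show _ = π.hom.app (op Y'.left) (res I k.left (t.t Y.hom x))
      rw [t.t_map]
      generalize_proofs
      congr 1
      have e : k.left ≫ Y.hom = Y'.hom := Over.w k
      revert hk
      rw [← e]
      intros
      rfl)
    (fun Y q v v' ⟨x, hq, hv⟩ ⟨x', hq', hv'⟩ => by
      obtain ⟨g, hg⟩ := H.exists_inc x x' (hq.trans hq'.symm)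
      rw [← hv, ← hv', ← hg, map_add, map_add, t.t_inc, π_j π hπ, zero_add])
    (fun Y q q' v v' ⟨x, hq, hv⟩ ⟨x', hq', hv'⟩ =>
      ⟨x + x', by rw [H.val_add, H.πQ_add, hq, hq'], by rw [map_add, map_add, hv, hv']⟩)
    (fun Y q => by
      obtain ⟨S, hS, h⟩ := exists_fib (H := H) (res P Y.hom p) q
      refine ⟨_, sieve_over Y hS, fun Y' k hk => ?_⟩
      obtain ⟨x, hx⟩ := h k.left ((Sieve.overEquiv_symm_iff _ _).1 hk)
      exact ⟨_, ⟨x.1, x.2.trans (by rw [res_comp, Over.w k])⟩, hx, rfl⟩)
  exact ⟨φ, fun {W} f x => hφ (Over.mk f) _ _ ⟨x, rfl, rfl⟩⟩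

end Half

end Groth.Agent.Biext68
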