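import Groth.Agent.CGrpEx.HomExact
import Groth.Agent.GaLoc87.Derived

/-!
# Gluing tools for abelian sheaves on a site
-/

set_option autoImplicit false
set_option backward.isDefEq.respectTransparency false
set_option backward.isDefEq.respectTransparency.types false

universe u

open CategoryTheory CategoryTheory.Limits Opposite

noncomputable section

namespace Groth.Agent.Biext68

variable {C : Type (u + 1)} [Category.{u} C] {J : GrothendieckTopology C}

/-- restriction of a section -/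
abbrev res (A : Sheaf J AddCommGrpCat.{u + 1}) {U V : C} (f : V ⟶ U) (x : A.obj.obj (op U)) : A.obj.obj (op V) :=
  A.obj.map f.op x

/-- restriction of a section of a sheaf of sets -/
abbrev resE (E : Sheaf J (Type (u + 1))) {U V : C} (f : V ⟶ U) (x : E.obj.obj (op U)) : E.obj.obj (op V) :=
  E.obj.map f.op x

theorem res_comp (A : Sheaf J AddCommGrpCat.{u + 1}) {U V W : C} (f : V ⟶ U) (g : W ⟶ V) (x : A.obj.obj (op U)) :
    res A g (res A f x) = res A (g ≫ f) x :=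
  (CategoryTheory.congr_fun (A.obj.map_comp f.op g.op) x).symm

theorem res_id (A : Sheaf J AddCommGrpCat.{u + 1}) {U : C} (x : A.obj.obj (op U)) : res A (𝟙 U) x = x :=
  CategoryTheory.congr_fun (A.obj.map_id (op U)) x

theorem resE_comp (E : Sheaf J (Type (u + 1))) {U V W : C} (f : V ⟶ U) (g : W ⟶ V) (x : E.obj.obj (op U)) :
    resE E g (resE E f x) = resE E (g ≫ f) x :=
  (CategoryTheory.congr_fun (E.obj.map_comp f.op g.op) x).symm

theorem resE_id (E : Sheaf J (Type (u + 1))) {U : C} (x : E.obj.obj (op U)) : resE E (𝟙 U) x = x :=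
  CategoryTheory.congr_fun (E.obj.map_id (op U)) x

theorem sepE (E : Sheaf J (Type (u + 1))) {T : C} {R : Sieve T} (hR : R ∈ J T) {a b : E.obj.obj (op T)}
    (h : ∀ ⦃W : C⦄ (f : W ⟶ T), R f → resE E f a = resE E f b) : a = b :=
  (((isSheaf_iff_isSheaf_of_type _ _).1 E.property) R hR).isSeparatedFor.ext h

/-- the sheaf of sets below an abelian sheaf -/
abbrev setSh (A : Sheaf J AddCommGrpCat.{u + 1}) : Sheaf J (Type (u + 1)) :=
  (sheafCompose J (forget AddCommGrpCat.{u + 1})).obj A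

theorem sepA (A : Sheaf J AddCommGrpCat.{u + 1}) {T : C} {R : Sieve T} (hR : R ∈ J T) {a b : A.obj.obj (op T)}
    (h : ∀ ⦃W : C⦄ (f : W ⟶ T), R f → res A f a = res A f b) : a = b :=
  sepE (setSh A) hR h

/-- gluing a section which is locally unique -/
theorem exists_glueE (E : Sheaf J (Type (u + 1))) {T : C} (Φ : ∀ {W : C}, (W ⟶ T) → E.obj.obj (op W) → Prop)
    (nat : ∀ {W W' : C} (g : W' ⟶ W) (f : W ⟶ T) (x : E.obj.obj (op W)), Φ f x → Φ (g ≫ f) (resE E g x))
    (uniq : ∀ {W : C} (f : W ⟶ T) (x y : E.obj.obj (op W)), Φ f x → Φ f y → x = y)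
    (loc : ∃ R ∈ J T, ∀ ⦃W : C⦄ (f : W ⟶ T), R f → ∃ x, Φ f x) :
    ∃ t, ∃ R ∈ J T, ∀ ⦃W : C⦄ (f : W ⟶ T), R f → Φ f (resE E f t) := by
  obtain ⟨R, hR, h⟩ := loc
  choose xf hxf using h
  have hc : (show Presieve.FamilyOfElements E.obj R.arrows from fun W f hf => xf f hf).Compatible := by
    intro Y₁ Y₂ Z a₁ a₂ f₁ f₂ h₁ h₂ w
    refine uniq (a₁ ≫ f₁) _ _ (nat a₁ f₁ _ (hxf f₁ h₁)) ?_
    rw [w]
    exact nat a₂ f₂ _ (hxf f₂ h₂)
  obtain ⟨t, ht, -⟩ := (((isSheaf_iff_isSheaf_of_type _ _).1 E.property) R hR) _ hc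
  refine ⟨t, R, hR, fun W f hf => ?_⟩
  have e : resE E f t = xf f hf := ht f hf
  rw [e]
  exact hxf f hf

/-- morphisms of abelian sheaves defined locally -/
theorem exists_desc (A M : Sheaf J AddCommGrpCat.{u + 1}) (R : ∀ T : C, A.obj.obj (op T) → M.obj.obj (op T) → Prop)
    (nat : ∀ {T W : C} (f : W ⟶ T) a m, R T a m → R W (res A f a) (res M f m))
    (uniq : ∀ (T : C) a m m', R T a m → R T a m' → m = m')
    (add : ∀ (T : C) a b m n, R T a m → R T b n → R T (a + b) (m + n))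
    (loc : ∀ (T : C) (a : A.obj.obj (op T)), ∃ S ∈ J T, ∀ ⦃W : C⦄ (f : W ⟶ T), S f → ∃ m, R W (res A f a) m) :
    ∃ φ : A ⟶ M, (∀ (T : C) a m, R T a m → φ.hom.app (op T) a = m) := by
  have hg : ∀ (T : C) (a : A.obj.obj (op T)), ∃ m : M.obj.obj (op T), ∀ ⦃W : C⦄ (f : W ⟶ T) (n : M.obj.obj (op W)),
      R W (res A f a) n → res M f m = n := fun T a => by
    obtain ⟨m, S, hS, hm⟩ := exists_glueE (setSh M) (T := T) (fun {W} f x => R W (res A f a) x)
      (fun g f x h => by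
        have := nat g _ _ h
        rw [res_comp] at this
        exact this)
      (fun f x y => uniq _ _ x y) (loc T a)
    refine ⟨m, fun W f n hn => sepA M (J.pullback_stable f hS) fun V g hg => ?_⟩
    rw [res_comp]
    refine uniq V _ _ _ (hm (g ≫ f) hg) ?_
    have := nat g _ _ hn
    rw [res_comp] at this
    exact this
  choose φ hφ using hg
  have hφeq : ∀ (T : C) a m, R T a m → φ T a = m := fun T a m h => by
    have := hφ T a (𝟙 T) m (by rw [res_id]; exact h)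
    rwa [res_id] at this
  let app : ∀ T : C, A.obj.obj (op T) →+ M.obj.obj (op T) := fun T => AddMonoidHom.mk' (φ T) fun a b => by
    obtain ⟨S₁, hS₁, h₁⟩ := loc T a
    obtain ⟨S₂, hS₂, h₂⟩ := loc T b
    refine sepA M (J.intersection_covering hS₁ hS₂) fun W f hf => ?_
    obtain ⟨m, hm⟩ := h₁ f hf.1
    obtain ⟨n, hn⟩ := h₂ f hf.2
    rw [hφ T (a + b) f (m + n) (by
      show R W (A.obj.map f.op (a + b)) _
      rw [map_add]; exact add W _ _ _ _ hm hn)]
    show m + n = M.obj.map f.op (φ T a + φ T b)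
    rw [map_add]
    exact congrArg₂ (· + ·) (hφ T a f m hm).symm (hφ T b f n hn).symm
  refine ⟨⟨{ app := fun T => AddCommGrpCat.ofHom (app T.unop), naturality := fun T T' g => ?_ }⟩, hφeq⟩
  refine AddCommGrpCat.ext fun a => ?_
  obtain ⟨S, hS, h⟩ := loc T'.unop (res A g.unop a)
  show φ T'.unop (res A g.unop a) = res M g.unop (φ T.unop a)
  refine sepA M hS fun W f hf => ?_
  obtain ⟨m, hm⟩ := h f hf
  rw [hφ _ _ f m hm, res_comp, hφ T.unop a (f ≫ g.unop) m (by rw [← res_comp]; exact hm)]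

theorem hom_ext_local {A M : Sheaf J AddCommGrpCat.{u + 1}} (φ ψ : A ⟶ M)
    (h : ∀ (T : C) (a : A.obj.obj (op T)), ∃ S ∈ J T, ∀ ⦃W : C⦄ (f : W ⟶ T), S f →
      φ.hom.app (op W) (res A f a) = ψ.hom.app (op W) (res A f a)) : φ = ψ := by
  refine Sheaf.hom_ext (NatTrans.ext (funext fun T => AddCommGrpCat.ext fun a => ?_))
  obtain ⟨T⟩ := T
  obtain ⟨S, hS, hf⟩ := h T a
  refine sepA M hS fun W f hfS => ?_
  show M.obj.map f.op (φ.hom.app (op T) a) = M.obj.map f.op (ψ.hom.app (op T) a)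
  rw [← NatTrans.naturality_apply φ.hom f.op a, ← NatTrans.naturality_apply ψ.hom f.op a]
  exact hf f hfS

theorem sieve_over {T : C} (Y : Over T) {S : Sieve Y.left} (hS : S ∈ J Y.left) :
    (Sieve.overEquiv Y).symm S ∈ J.over T Y := by
  rw [GrothendieckTopology.mem_over_iff]
  exact ((Sieve.overEquiv Y).apply_symm_apply S).symm ▸ hS

variable {Sc : ShortComplex (Sheaf J AddCommGrpCat.{u + 1})}

theorem sections_exact (hS : Sc.ShortExact) (T : C) :
    Function.Injective (Sc.f.hom.app (op T)) ∧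
      ∀ x, Sc.g.hom.app (op T) x = 0 → ∃ a, Sc.f.hom.app (op T) a = x := by
  haveI := hS.mono_f
  let Φ : Sheaf J AddCommGrpCat.{u + 1} ⥤ AddCommGrpCat.{u + 1} :=
    sheafToPresheaf _ _ ⋙ (evaluation _ _).obj (op T)
  have : PreservesFiniteLimits Φ := comp_preservesFiniteLimits _ _
  have hm : Mono (Φ.map Sc.f) := inferInstance
  have h1 := (Sc.map Φ).exact_of_f_is_kernel (KernelFork.mapIsLimit _ hS.exact.fIsKernel Φ)
  rw [ShortComplex.ab_exact_iff] at h1
  exact ⟨(AddCommGrpCat.mono_iff_injective _).1 hm, h1⟩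

theorem locally_lift [HasSheafify J AddCommGrpCat.{u + 1}] (hS : Sc.Exact) (T : C) (x : Sc.X₂.obj.obj (op T)) (hx : Sc.g.hom.app (op T) x = 0) :
    ∃ R ∈ J T, ∀ ⦃W : C⦄ (f : W ⟶ T), R f → ∃ a, Sc.f.hom.app (op W) a = res Sc.X₂ f x := by
  haveI := hS.epi_kernelLift
  let l := kernel.lift Sc.g Sc.f Sc.zero
  let Φ : Sheaf J AddCommGrpCat.{u + 1} ⥤ AddCommGrpCat.{u + 1} :=
    sheafToPresheaf _ _ ⋙ (evaluation _ _).obj (op T)
  have : PreservesFiniteLimits Φ := comp_preservesFiniteLimits _ _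
  let K := ShortComplex.mk (kernel.ι Sc.g) Sc.g (kernel.condition Sc.g)
  have h1 := (K.map Φ).exact_of_f_is_kernel (KernelFork.mapIsLimit _ (kernelIsKernel Sc.g) Φ)
  rw [ShortComplex.ab_exact_iff] at h1
  obtain ⟨z, hz⟩ := h1 x hx
  have hl : Sheaf.IsLocallySurjective l := (Sheaf.isLocallySurjective_iff_epi' _ _).2 inferInstance
  refine ⟨_, Presheaf.imageSieve_mem J l.hom z, fun W f hf => ?_⟩
  obtain ⟨a, ha⟩ := hf
  refine ⟨a, ?_⟩
  have e : l ≫ kernel.ι Sc.g = Sc.f := kernel.lift_ι _ _ _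
  rw [← e]
  show (kernel.ι Sc.g).hom.app (op W) (l.hom.app (op W) a) = _
  rw [ha, NatTrans.naturality_apply]
  exact congrArg _ hz

theorem exists_delta [HasInjectiveResolutions (Sheaf J AddCommGrpCat.{u + 1})] (A : Sheaf J AddCommGrpCat.{u + 1})
    (hS : Sc.ShortExact) :
    ∃ (δ : HomSh.homSh J A Sc.X₃ ⟶ (HomSh.extSh J A 1).obj Sc.X₁) (w : (HomSh.homShFunctor J A).map Sc.g ≫ δ = 0),
      (ShortComplex.mk _ δ w).Exact := by
  suffices ∀ (G E : Sheaf J AddCommGrpCat.{u + 1} ⥤ Sheaf J AddCommGrpCat.{u + 1}) [G.Additive] [PreservesFiniteLimits G],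
      E = G.rightDerived 1 → ∃ (δ : G.obj Sc.X₃ ⟶ E.obj Sc.X₁) (w : G.map Sc.g ≫ δ = 0),
        (ShortComplex.mk _ δ w).Exact from this _ _ (HomSh.extSh_def J A 1)
  intro G E _ _ e
  subst e
  let L := RDerLES.derivedLES G
  let ι := G.rightDerivedZeroIsoSelf
  have w : G.map Sc.g ≫ ι.inv.app Sc.X₃ ≫ L.δ Sc hS 0 1 rfl = 0 := by
    rw [← Category.assoc, ι.inv.naturality, Category.assoc, L.comp_δ Sc hS 0 1 rfl, comp_zero]
  refine ⟨ι.inv.app Sc.X₃ ≫ L.δ Sc hS 0 1 rfl, w, ?_⟩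
  let S₀ := ShortComplex.mk ((G.rightDerived 0).map Sc.g) (L.δ Sc hS 0 1 rfl) (L.comp_δ Sc hS 0 1 rfl)
  let S₁ := ShortComplex.mk (G.map Sc.g) _ w
  let e : S₀ ≅ S₁ := ShortComplex.isoMk (ι.app Sc.X₂) (ι.app Sc.X₃) (Iso.refl _) (ι.hom.naturality Sc.g).symm (by
    show ι.hom.app Sc.X₃ ≫ ι.inv.app Sc.X₃ ≫ L.δ Sc hS 0 1 rfl = L.δ Sc hS 0 1 rfl ≫ 𝟙 _
    rw [← Category.assoc, Iso.hom_inv_id_app, Category.id_comp, Category.comp_id])
  exact ShortComplex.exact_of_iso e (L.exact₃ Sc hS 0 1 rfl)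

/-- the values of an injective sheaf form an injective presheaf -/
theorem injective_presheaf [HasSheafify J AddCommGrpCat.{u + 1}] (I : Sheaf J AddCommGrpCat.{u + 1}) [Injective I] :
    Injective I.obj :=
  Injective.injective_of_adjoint (sheafificationAdjunction J AddCommGrpCat.{u + 1}) I

end Groth.Agent.Biext68
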